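import Groth.Agent.Omega.SmoothFibreDim
import Groth.Agent.FlatMor.SmoothCartier
import Groth.Agent.TrdegDim.Basic

/-!
# Bertini for affine hyperplanes

* `exists_poly_tangent`: outside a hypersurface in the space of coefficients, a hyperplane
  `a₀ + ∑ aᵢ xᵢ` is nowhere tangent to a smooth affine algebra.
* `ringKrullDim_quotient_away`: dimension of components of a localisation.
-/

set_option autoImplicit false

universe u

open TensorProduct

noncomputable section

namespace Groth.Agent.Bertini

variable {k : Type u} [Field k] {A : Type u} [CommRing A] [Algebra k A] [Algebra.FiniteType k A]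
variable {n : ℕ} (x : Fin n → A)

/-- Coefficients killing `h` and `dh` at a point are algebraically dependent. -/
theorem not_algebraicIndependent
    (hspan : Submodule.span A (Set.range fun i => KaehlerDifferential.D k A (x i)) = ⊤)
    {L : Type u} [Field L] [Algebra k L] [Algebra A L] [IsScalarTower k A L] (α : Fin (n + 1) → L)
    (h0 : α 0 + ∑ i : Fin n, α i.succ * algebraMap A L (x i) = 0)
    (h1 : ∑ i : Fin n, α i.succ ⊗ₜ[A] KaehlerDifferential.D k A (x i) = 0) :
    ¬ AlgebraicIndependent k α := by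
  classical
  intro hind
  let P := RingHom.ker (algebraMap A L)
  haveI : P.IsPrime := RingHom.ker_isPrime _
  let F := P.ResidueField
  let φ : F →ₐ[k] L := Ideal.ResidueField.liftₐ P (IsScalarTower.toAlgHom k A L) le_rfl
    fun a ha => isUnit_iff_ne_zero.2 fun h => ha h
  letI : Algebra F L := φ.toRingHom.toAlgebra
  haveI : IsScalarTower A F L := IsScalarTower.of_algebraMap_eq fun a =>
    (Ideal.ResidueField.liftₐ_algebraMap P (IsScalarTower.toAlgHom k A L) le_rfl _ a).symm
  haveI : IsScalarTower k F L := IsScalarTower.of_algebraMap_eq fun c => (φ.commutes c).symm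
  haveI : Module.Finite A Ω[A⁄k] := inferInstance
  let w : Fin n → F ⊗[A] Ω[A⁄k] := fun i => (1 : F) ⊗ₜ KaehlerDifferential.D k A (x i)
  have hw : Submodule.span F (Set.range w) = ⊤ := by
    refine top_unique fun t _ => ?_
    induction t using TensorProduct.induction_on with
    | zero => exact zero_mem _
    | add a b ha hb => exact add_mem (ha Submodule.mem_top) (hb Submodule.mem_top)
    | tmul c m =>
      obtain ⟨r, rfl⟩ := (Submodule.mem_span_range_iff_exists_fun A).1 (hspan.ge (Submodule.mem_top (x := m)))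
      rw [tmul_sum]
      refine Submodule.sum_mem _ fun i _ => ?_
      rw [show c ⊗ₜ[A] (r i • KaehlerDifferential.D k A (x i)) = (r i • c) • w i by
        rw [smul_tmul', smul_eq_mul, mul_one, smul_tmul]]
      exact Submodule.smul_mem _ _ (Submodule.subset_span ⟨i, rfl⟩)
  set ρ := Module.finrank F (F ⊗[A] Ω[A⁄k]) with hρ
  obtain ⟨f, hf, hfspan, hfli⟩ := Submodule.exists_fun_fin_finrank_span_eq F (Set.range w)
  replace hfspan := hfspan.trans hw
  choose e he using hf
  have heinj : Function.Injective e := fun a b hab => hfli.injective (by rw [← he a, ← he b, hab])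
  have hcard : Module.finrank F (Submodule.span F (Set.range w)) = ρ := by rw [hw, finrank_top]
  let b : Module.Basis _ F (F ⊗[A] Ω[A⁄k]) := Module.Basis.mk hfli hfspan.ge
  let bL := (b.baseChange L).map (AlgebraTensorModule.cancelBaseChange A F L L Ω[A⁄k])
  let T := {j : Fin n // j ∉ Set.range e}
  have hrepr : ∀ j i, bL.repr ((1 : L) ⊗ₜ KaehlerDifferential.D k A (x j)) i = algebraMap F L (b.repr (w j) i) := by
    intro j i
    have : (AlgebraTensorModule.cancelBaseChange A F L L Ω[A⁄k]).symm ((1 : L) ⊗ₜ KaehlerDifferential.D k A (x j)) =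
        (1 : L) ⊗ₜ[F] w j := by simp [w]
    simp only [bL, Module.Basis.map_repr, LinearEquiv.trans_apply, this]
    rw [Module.Basis.baseChange_repr_tmul, Algebra.smul_def, mul_one]
  have hzero : ∀ i, ∑ j, α j.succ * algebraMap F L (b.repr (w j) i) = 0 := by
    intro i
    have h2 := congrArg (fun z => bL.repr z i) h1
    simp only [map_zero, Finsupp.coe_zero, Pi.zero_apply] at h2
    rw [map_sum, Finsupp.finsetSum_apply] at h2
    refine Eq.trans (Finset.sum_congr rfl fun j _ => ?_) h2
    rw [show α j.succ ⊗ₜ[A] KaehlerDifferential.D k A (x j) =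
      α j.succ • ((1 : L) ⊗ₜ[A] KaehlerDifferential.D k A (x j)) by rw [smul_tmul', smul_eq_mul, mul_one],
      map_smul, Finsupp.smul_apply, smul_eq_mul, hrepr]
  let R : Subalgebra F L := (MvPolynomial.aeval (R := F) fun j : T => α j.1.succ).range
  have hT : ∀ j : Fin n, j ∉ Set.range e → α j.succ ∈ R := fun j hj =>
    ⟨MvPolynomial.X ⟨j, hj⟩, MvPolynomial.aeval_X _ _⟩
  have hS : ∀ i, α (e i).succ ∈ R := by
    intro i
    have h2 := hzero i
    rw [← Finset.sum_filter_add_sum_filter_not Finset.univ (fun j => j ∈ Set.range e)] at h2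
    have h3 : ∑ j ∈ Finset.univ.filter (fun j => j ∈ Set.range e), α j.succ * algebraMap F L (b.repr (w j) i) =
        α (e i).succ := by
      rw [Finset.sum_eq_single (e i)]
      · rw [show w (e i) = b i by rw [he, Module.Basis.mk_apply], Module.Basis.repr_self, Finsupp.single_eq_same,
          map_one, mul_one]
      · intro j hj hne
        obtain ⟨i', rfl⟩ := (Finset.mem_filter.1 hj).2
        rw [show w (e i') = b i' by rw [he, Module.Basis.mk_apply], Module.Basis.repr_self,
          Finsupp.single_eq_of_ne (fun h => hne (by rw [h])), map_zero, mul_zero]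
      · intro h
        exact absurd (Finset.mem_filter.2 ⟨Finset.mem_univ _, Set.mem_range_self i⟩) h
    rw [h3] at h2
    rw [eq_neg_of_add_eq_zero_left h2]
    refine neg_mem (sum_mem fun j hj => ?_)
    exact mul_mem (hT j (Finset.mem_filter.1 hj).2) (R.algebraMap_mem _)
  have hall : ∀ j : Fin n, α j.succ ∈ R := fun j => by
    by_cases hj : j ∈ Set.range e
    · obtain ⟨i, rfl⟩ := hj; exact hS i
    · exact hT j hj
  have hα : ∀ j, α j ∈ R := Fin.cases (by
    rw [eq_neg_of_add_eq_zero_left h0]
    refine neg_mem (sum_mem fun i _ => mul_mem (hall i) ?_)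
    rw [IsScalarTower.algebraMap_apply A F L]
    exact R.algebraMap_mem _) hall
  obtain ⟨t, ht⟩ := Omega.RankDim.exists_trdeg_eq k P
  have htρ : t ≤ ρ := Omega.RankDim.trdeg_le_rank k P t ht
  have hρT : ρ + Fintype.card T = n := by
    rw [Fintype.card_subtype_compl, Fintype.card_fin,
      show Fintype.card {j // j ∈ Set.range e} = ρ from
        ((Set.card_range_of_injective heinj).trans (Fintype.card_fin _)).trans hcard]
    have : ρ ≤ n := by
      rw [← hcard]
      exact (finrank_range_le_card w).trans_eq (Fintype.card_fin n)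
    omega
  let π : MvPolynomial T F →ₐ[k] (R.restrictScalars k) :=
    ((MvPolynomial.aeval (R := F) fun j : T => α j.1.succ).rangeRestrict).restrictScalars k
  have hπ : Function.Surjective π := (MvPolynomial.aeval (R := F) fun j : T => α j.1.succ).rangeRestrict_surjective
  have hind' : AlgebraicIndependent k (fun j => (⟨α j, hα j⟩ : R.restrictScalars k)) :=
    AlgebraicIndependent.of_comp (R.restrictScalars k).val hind
  have h5 := hind'.lift_cardinalMk_le_trdeg
  have h6 : Algebra.trdeg k (R.restrictScalars k) ≤ ((t + Fintype.card T : ℕ) : Cardinal) := by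
    refine (trdeg_le_of_surjective π hπ).trans_eq ?_
    rw [← trdeg_add_eq k F (A := MvPolynomial T F), ht, MvPolynomial.trdeg_of_isDomain, Cardinal.mk_fintype]
    simp
  have h7 : ((n + 1 : ℕ) : Cardinal.{u}) ≤ ((t + Fintype.card T : ℕ) : Cardinal) := by
    refine le_trans ?_ h6
    simpa using h5
  have := Nat.cast_le.1 h7
  omega

/-- **Bertini, tangency**: general affine hyperplanes are nowhere tangent. -/
theorem exists_poly_tangent [Module.Projective A Ω[A⁄k]]
    (hspan : Submodule.span A (Set.range fun i => KaehlerDifferential.D k A (x i)) = ⊤) :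
    ∃ g : MvPolynomial (Fin (n + 1)) k, g ≠ 0 ∧ ∀ a : Fin (n + 1) → k, MvPolynomial.eval a g ≠ 0 →
      ∀ (P : Ideal A) [P.IsPrime], algebraMap k A (a 0) + ∑ i : Fin n, algebraMap k A (a i.succ) * x i ∈ P →
        (1 : P.ResidueField) ⊗ₜ[A] KaehlerDifferential.D k A
          (algebraMap k A (a 0) + ∑ i : Fin n, algebraMap k A (a i.succ) * x i) ≠ 0 := by
  classical
  haveI : Module.Finite A Ω[A⁄k] := inferInstance
  haveI : IsNoetherianRing A := Algebra.FiniteType.isNoetherianRing k A
  obtain ⟨N, π, hπ⟩ := Module.Finite.exists_fin' A Ω[A⁄k]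
  obtain ⟨ι, hι⟩ := Module.projective_lifting_property π LinearMap.id hπ
  let c : Fin n → Fin N → A := fun i l => ι (KaehlerDifferential.D k A (x i)) l
  let H : MvPolynomial (Fin (n + 1)) A := MvPolynomial.X 0 + ∑ i : Fin n, MvPolynomial.X i.succ * MvPolynomial.C (x i)
  let C : Fin N → MvPolynomial (Fin (n + 1)) A := fun l => ∑ i : Fin n, MvPolynomial.X i.succ * MvPolynomial.C (c i l)
  let I : Ideal (MvPolynomial (Fin (n + 1)) A) := Ideal.span (insert H (Set.range C))
  have hfin : I.minimalPrimes.Finite := Ideal.finite_minimalPrimes_of_isNoetherianRing _ I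
  have hker : ∀ Q ∈ I.minimalPrimes, ∃ g : MvPolynomial (Fin (n + 1)) k, g ≠ 0 ∧
      MvPolynomial.map (algebraMap k A) g ∈ Q := by
    intro Q hQ
    haveI : Q.IsPrime := hQ.1.1
    have hψ : ∀ z, algebraMap A Q.ResidueField z =
        algebraMap (MvPolynomial (Fin (n + 1)) A) Q.ResidueField (MvPolynomial.C z) := fun z =>
      IsScalarTower.algebraMap_apply A (MvPolynomial (Fin (n + 1)) A) Q.ResidueField z
    let α : Fin (n + 1) → Q.ResidueField := fun j =>
      algebraMap (MvPolynomial (Fin (n + 1)) A) Q.ResidueField (MvPolynomial.X j)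
    have hmem : ∀ p ∈ I, algebraMap (MvPolynomial (Fin (n + 1)) A) Q.ResidueField p = 0 := fun p hp =>
      Ideal.algebraMap_residueField_eq_zero.2 (hQ.1.2 hp)
    have h0 : α 0 + ∑ i : Fin n, α i.succ * algebraMap A Q.ResidueField (x i) = 0 := by
      refine Eq.trans ?_ (hmem H (Ideal.subset_span (Set.mem_insert _ _)))
      simp [H, α, hψ]
    have h1 : ∑ i : Fin n, α i.succ ⊗ₜ[A] KaehlerDifferential.D k A (x i) = 0 := by
      have h2 : (π.comp ι).lTensor Q.ResidueField (∑ i : Fin n, α i.succ ⊗ₜ[A] KaehlerDifferential.D k A (x i)) =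
          ∑ i : Fin n, α i.succ ⊗ₜ[A] KaehlerDifferential.D k A (x i) := by rw [hι, LinearMap.lTensor_id]; rfl
      rw [← h2, LinearMap.lTensor_comp, LinearMap.comp_apply]
      refine (congrArg _ ?_).trans (map_zero _)
      rw [map_sum]
      simp only [LinearMap.lTensor_tmul]
      calc ∑ i : Fin n, α i.succ ⊗ₜ[A] ι (KaehlerDifferential.D k A (x i))
          = ∑ i : Fin n, ∑ l, (c i l • α i.succ) ⊗ₜ[A] (Pi.single l 1 : Fin N → A) := by
            refine Finset.sum_congr rfl fun i _ => ?_
            conv_lhs => rw [pi_eq_sum_univ' (ι (KaehlerDifferential.D k A (x i))), tmul_sum]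
            refine Finset.sum_congr rfl fun l _ => ?_
            exact (TensorProduct.smul_tmul (c i l) (α i.succ) _).symm
        _ = ∑ l, (algebraMap (MvPolynomial (Fin (n + 1)) A) Q.ResidueField (C l)) ⊗ₜ[A] (Pi.single l 1 : Fin N → A) := by
            rw [Finset.sum_comm]
            refine Finset.sum_congr rfl fun l _ => ?_
            rw [← sum_tmul]
            congr 1
            simp [C, α, hψ, Algebra.smul_def, mul_comm]
        _ = 0 := Finset.sum_eq_zero fun l _ => by
            rw [hmem _ (Ideal.subset_span (Set.mem_insert_of_mem _ ⟨l, rfl⟩)), zero_tmul]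
    have hdep := not_algebraicIndependent x hspan α h0 h1
    rw [algebraicIndependent_iff] at hdep
    push Not at hdep
    obtain ⟨g, hg, hg0⟩ := hdep
    refine ⟨g, hg0, Ideal.algebraMap_residueField_eq_zero.1 ?_⟩
    refine Eq.trans ?_ hg
    have h3 : ((algebraMap (MvPolynomial (Fin (n + 1)) A) Q.ResidueField).comp (MvPolynomial.map (algebraMap k A)) :
        MvPolynomial (Fin (n + 1)) k →+* Q.ResidueField) = (MvPolynomial.aeval α).toRingHom :=
      MvPolynomial.ringHom_ext (fun r => by simp [← hψ, ← IsScalarTower.algebraMap_apply]) (fun j => by simp [α])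
    exact RingHom.congr_fun h3 g
  choose! g hg0 hgQ using hker
  refine ⟨∏ Q ∈ hfin.toFinset, g Q, Finset.prod_ne_zero_iff.2 fun Q hQ => hg0 Q (hfin.mem_toFinset.1 hQ),
    fun a ha P _ hP hd => ?_⟩
  let ε : MvPolynomial (Fin (n + 1)) A →+* P.ResidueField :=
    MvPolynomial.eval₂Hom (algebraMap A P.ResidueField) fun j => algebraMap k P.ResidueField (a j)
  have hI : I ≤ RingHom.ker ε := by
    refine Ideal.span_le.2 (Set.insert_subset ?_ ?_)
    · refine Eq.trans ?_ (Ideal.algebraMap_residueField_eq_zero.2 hP)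
      simp [ε, H, ← IsScalarTower.algebraMap_apply]
    · rintro _ ⟨l, rfl⟩
      have h2 := congrArg (fun z => TensorProduct.piScalarRight A A P.ResidueField (Fin N) (ι.lTensor P.ResidueField z) l) hd
      simp only [LinearMap.lTensor_tmul, TensorProduct.piScalarRight_apply, TensorProduct.piScalarRightHom_tmul,
        map_zero, Pi.zero_apply] at h2
      refine Eq.trans ?_ h2
      simp [ε, C, c, map_sum, Derivation.leibniz, Derivation.map_algebraMap, Algebra.smul_def,
        ← IsScalarTower.algebraMap_apply, Finset.sum_apply, Pi.mul_apply]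
  haveI : (RingHom.ker ε).IsPrime := RingHom.ker_isPrime _
  obtain ⟨Q, hQ, hQle⟩ := Ideal.exists_minimalPrimes_le hI
  have h3 : ε (MvPolynomial.map (algebraMap k A) (g Q)) = algebraMap k P.ResidueField (MvPolynomial.eval a (g Q)) := by
    have : (ε.comp (MvPolynomial.map (algebraMap k A)) : MvPolynomial (Fin (n + 1)) k →+* P.ResidueField) =
        (algebraMap k P.ResidueField).comp (MvPolynomial.eval a) :=
      MvPolynomial.ringHom_ext (fun r => by simp [ε, ← IsScalarTower.algebraMap_apply]) (fun j => by simp [ε])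
    exact RingHom.congr_fun this (g Q)
  have h4 : MvPolynomial.eval a (g Q) = 0 :=
    (algebraMap k P.ResidueField).injective (by rw [map_zero, ← h3]; exact hQle (hgQ Q hQ))
  refine ha ?_
  rw [map_prod]
  exact Finset.prod_eq_zero (hfin.mem_toFinset.2 hQ) h4

omit x in
/-- The components of a localisation away from an element. -/
theorem ringKrullDim_quotient_away (t : A) {T : Type u} [CommRing T] [Algebra A T] [Algebra k T]
    [IsScalarTower k A T] [IsLocalization.Away t T] (p : Ideal T) [p.IsPrime] :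
    ringKrullDim (T ⧸ p) = ringKrullDim (A ⧸ p.comap (algebraMap A T)) := by
  let q := p.comap (algebraMap A T)
  haveI := IsLocalization.Away.finitePresentation (S := T) t
  haveI : Algebra.FiniteType A T := inferInstance
  haveI : Algebra.FiniteType k T := Algebra.FiniteType.trans ‹Algebra.FiniteType k A› ‹Algebra.FiniteType A T›
  haveI : Algebra.FiniteType k (T ⧸ p) := VarDim.finiteType_quotient k T p
  haveI : Algebra.FiniteType k (A ⧸ q) := VarDim.finiteType_quotient k A q
  obtain ⟨r, hr, hr', -⟩ := VarDim.exists_ringKrullDim_eq_trdeg k (A ⧸ q)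
  rw [hr]
  refine VarDim.ringKrullDim_eq_of_trdeg_eq k (T ⧸ p) ?_
  letI : Algebra (A ⧸ q) (T ⧸ p) := (Ideal.quotientMap p (algebraMap A T) le_rfl).toAlgebra
  haveI : IsScalarTower k (A ⧸ q) (T ⧸ p) := IsScalarTower.of_algebraMap_eq fun c => by
    change _ = Ideal.quotientMap p (algebraMap A T) le_rfl (Ideal.Quotient.mk q (algebraMap k A c))
    rw [Ideal.quotientMap_mk, ← IsScalarTower.algebraMap_apply]
    rfl
  haveI : FaithfulSMul (A ⧸ q) (T ⧸ p) :=
    (faithfulSMul_iff_algebraMap_injective _ _).2 Ideal.quotientMap_injective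
  haveI : Algebra.IsAlgebraic (A ⧸ q) (T ⧸ p) := ⟨fun b => by
    obtain ⟨b, rfl⟩ := Ideal.Quotient.mk_surjective b
    obtain ⟨⟨a, ⟨_, m, rfl⟩⟩, ha⟩ := IsLocalization.surj (Submonoid.powers t) b
    refine ⟨Polynomial.C (Ideal.Quotient.mk q (t ^ m)) * Polynomial.X - Polynomial.C (Ideal.Quotient.mk q a), ?_, ?_⟩
    · intro h
      have h1 := congrArg (fun P : Polynomial (A ⧸ q) => P.coeff 1) h
      simp only [Polynomial.coeff_sub, Polynomial.coeff_C_mul, Polynomial.coeff_X_one, mul_one, Polynomial.coeff_C,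
        one_ne_zero, if_false, sub_zero, Polynomial.coeff_zero, Ideal.Quotient.eq_zero_iff_mem] at h1
      exact Ideal.IsPrime.ne_top ‹p.IsPrime› (Ideal.eq_top_of_isUnit_mem _ h1
        (IsLocalization.map_units T (⟨t ^ m, m, rfl⟩ : Submonoid.powers t)))
    · simp only [map_sub, map_mul, Polynomial.aeval_C, Polynomial.aeval_X]
      change Ideal.Quotient.mk p (algebraMap A T (t ^ m)) * Ideal.Quotient.mk p b - Ideal.Quotient.mk p (algebraMap A T a) = 0
      rw [← map_mul, mul_comm, ha, sub_self]⟩
  rw [← trdeg_add_eq k (A ⧸ q), trdeg_eq_zero (R := A ⧸ q) (A := T ⧸ p), add_zero, hr']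

end Groth.Agent.Bertini

noncomputable section

open TensorProduct CategoryTheory AlgebraicGeometry

namespace Groth.Agent.Bertini

variable {k : Type u} [Field k] {A : Type u} [CommRing A] [Algebra k A] [Algebra.FiniteType k A]

/-- A smooth algebra all of whose components have dimension `d` is smooth of relative dimension `d`. -/
theorem smoothOfRelativeDimension_of_dim {d : ℕ} [Algebra.Smooth k A]
    (hdim : ∀ p ∈ minimalPrimes A, ringKrullDim (A ⧸ p) = d) :
    SmoothOfRelativeDimension d (Spec.map (CommRingCat.ofHom (algebraMap k A))) := by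
  rw [HasRingHomProperty.Spec_iff (P := @SmoothOfRelativeDimension d)]
  refine ⟨{t | Algebra.IsStandardSmoothOfRelativeDimension d k (Localization.Away t)}, ?_, fun t ht => ?_⟩
  swap
  · rw [CommRingCat.hom_ofHom, ← IsScalarTower.algebraMap_eq]
    show RingHom.IsStandardSmoothOfRelativeDimension d (algebraMap k (Localization.Away t))
    exact (RingHom.isStandardSmoothOfRelativeDimension_algebraMap d).2 ht
  by_contra hne
  obtain ⟨M, hM, hle⟩ := Ideal.exists_le_maximal _ hne
  haveI := hM.isPrime
  haveI : Algebra.IsSmoothAt k M := Algebra.FormallySmooth.comp k A (Localization.AtPrime M)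
  obtain ⟨f, hf, hstd⟩ := Algebra.IsSmoothAt.exists_notMem_isStandardSmooth k (S := A) M
  refine hf (hle (Ideal.subset_span ?_))
  show Algebra.IsStandardSmoothOfRelativeDimension d k (Localization.Away f)
  have hmem : (⟨M, inferInstance⟩ : PrimeSpectrum A) ∈ Set.range (PrimeSpectrum.comap (algebraMap A (Localization.Away f))) := by
    rw [PrimeSpectrum.localization_away_comap_range (Localization.Away f) f]; exact hf
  obtain ⟨Q, hQ⟩ := hmem
  haveI : Nontrivial (Localization.Away f) := Q.nontrivial
  haveI := hstd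
  haveI : Algebra.FormallyEtale A (Localization.Away f) := Algebra.FormallyEtale.of_isLocalization (Submonoid.powers f)
  have hrk : Module.rankAtStalk (R := A) Ω[A⁄k] ⟨M, inferInstance⟩ = d := by
    have h1 := Omega.SmoothFibreDim.localDim_eq_rank k A ⟨M, inferInstance⟩
    rw [CAlgLib.LocalDimSpec.localDim_eq k M] at h1
    obtain ⟨p, hp, hpM⟩ := Ideal.exists_minimalPrimes_le (bot_le : (⊥ : Ideal A) ≤ M)
    have h2 : (⨆ q : CAlgLib.LocalDimSpec.Mins M, ringKrullDim (A ⧸ q.1)) = d :=
      le_antisymm (iSup_le fun q => (hdim q.1 q.2.1).le)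
        ((hdim p hp).ge.trans (le_iSup_of_le (⟨p, hp, hpM⟩ : CAlgLib.LocalDimSpec.Mins M) le_rfl))
    rw [h2] at h1
    exact_mod_cast h1.symm
  rw [Algebra.IsStandardSmoothOfRelativeDimension.iff_of_isStandardSmooth, ← Module.finrank_eq_rank]
  have h5 := congrFun (Module.rankAtStalk_eq_finrank_of_free (R := Localization.Away f) (M := Ω[Localization.Away f⁄k])) Q
  simp only [Pi.natCast_apply, Nat.cast_id] at h5
  rw [Nat.cast_inj, ← h5,
    ← Module.rankAtStalk_eq_of_equiv (KaehlerDifferential.isBaseChange_of_formallyEtale k A (Localization.Away f)).equiv,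
    Module.rankAtStalk_baseChange, hQ, hrk]

/-- Translate nonvanishing of a differential to the local ring. -/
theorem residue_D_ne_zero {P : Ideal A} [P.IsPrime] {h : A}
    (hd : (1 : P.ResidueField) ⊗ₜ[A] KaehlerDifferential.D k A h ≠ 0) :
    (1 : IsLocalRing.ResidueField (Localization.AtPrime P)) ⊗ₜ[Localization.AtPrime P]
      KaehlerDifferential.D k (Localization.AtPrime P) (algebraMap A (Localization.AtPrime P) h) ≠ 0 := by
  let L := Localization.AtPrime P
  haveI : Algebra.FormallyEtale A L := Algebra.FormallyEtale.of_isLocalization P.primeCompl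
  let e := (AlgebraTensorModule.cancelBaseChange A L P.ResidueField P.ResidueField Ω[A⁄k]).symm.trans
    (AlgebraTensorModule.congr (LinearEquiv.refl P.ResidueField P.ResidueField)
      (KaehlerDifferential.isBaseChange_of_formallyEtale k A L).equiv)
  intro h0
  refine hd (e.injective ?_)
  rw [map_zero]
  refine Eq.trans ?_ h0
  simp [e, IsBaseChange.equiv_tmul]
  rfl

variable {n : ℕ} (x : Fin n → A)

theorem span_D_away (hx : Function.Surjective (MvPolynomial.aeval x : MvPolynomial (Fin n) k →ₐ[k] A)) (f : A) :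
    Submodule.span (Localization.Away f)
      (Set.range fun i => KaehlerDifferential.D k (Localization.Away f) (algebraMap A _ (x i))) = ⊤ := by
  let T := Localization.Away f
  rw [eq_top_iff, ← KaehlerDifferential.span_range_map_derivation_of_isLocalization k A T (Submonoid.powers f),
    Submodule.span_le]
  rintro _ ⟨z, rfl⟩
  rw [SetLike.mem_coe, Function.comp_apply, KaehlerDifferential.map_D]
  obtain ⟨p, rfl⟩ := hx z
  induction p using MvPolynomial.induction_on with
  | C r => simp [← IsScalarTower.algebraMap_apply]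
  | add p q hp hq => rw [map_add, map_add, map_add]; exact add_mem hp hq
  | mul_X p i hp =>
    rw [map_mul, map_mul, Derivation.leibniz, MvPolynomial.aeval_X]
    exact add_mem (Submodule.smul_mem _ _ (Submodule.subset_span ⟨i, rfl⟩)) (Submodule.smul_mem _ _ hp)

set_option backward.isDefEq.respectTransparency false in
/-- The hyperplane section near a point where it is transversal. -/
theorem exists_smooth_section (r : ℕ) (hdim : ∀ P ∈ minimalPrimes A, ringKrullDim (A ⧸ P) = r)
    (h : A) (q : Ideal (A ⧸ Ideal.span {h})) [q.IsPrime] (f : A) (hf : f ∉ q.comap (Ideal.Quotient.mk _))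
    [Algebra.Smooth k (Localization.Away f)]
    (hd : ∀ (P : Ideal (Localization.Away f)) [P.IsPrime], algebraMap A (Localization.Away f) h ∈ P →
      (1 : P.ResidueField) ⊗ₜ[Localization.Away f] KaehlerDifferential.D k (Localization.Away f)
        (algebraMap A (Localization.Away f) h) ≠ 0) :
    ∃ g : A ⧸ Ideal.span {h}, g ∉ q ∧
      SmoothOfRelativeDimension (r - 1) (Spec.map (CommRingCat.ofHom (algebraMap k (Localization.Away g)))) := by
  let I : Ideal A := Ideal.span {h}
  let P := q.comap (Ideal.Quotient.mk I)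
  have hhP : h ∈ P := by
    show Ideal.Quotient.mk I h ∈ q
    rw [Ideal.Quotient.eq_zero_iff_mem.2 (Ideal.mem_span_singleton_self h)]
    exact q.zero_mem
  let As := Localization.Away f
  let Ps := P.map (algebraMap A As)
  have hdisj : Disjoint (Submonoid.powers f : Set A) (P : Set A) :=
    (Ideal.disjoint_powers_iff_notMem_of_isPrime _).2 hf
  haveI hPs : Ps.IsPrime := IsLocalization.isPrime_of_isPrime_disjoint (Submonoid.powers f) _ _ inferInstance hdisj
  have hPsA : Ps.comap (algebraMap A As) = P :=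
    IsLocalization.under_map_of_isPrime_disjoint (Submonoid.powers f) _ inferInstance hdisj
  obtain ⟨s, hs, hcart⟩ := FlatMor.SmoothCartier.exists_cartier (A := k) (L := Localization.AtPrime Ps) Ps
    (algebraMap A As h) (residue_D_ne_zero (hd Ps (Ideal.mem_map_of_mem _ hhP)))
  obtain ⟨⟨a, ⟨_, m, rfl⟩⟩, ha⟩ := IsLocalization.surj (Submonoid.powers f) s
  have haP : a ∉ P := by
    rw [← hPsA, Ideal.mem_comap, ← ha]
    intro hm
    rcases ‹Ps.IsPrime›.mem_or_mem hm with h1 | h1
    · exact hs h1
    · rw [map_pow] at h1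
      exact hf (hPsA.le (‹Ps.IsPrime›.mem_of_pow_mem _ h1))
  let Bs := Localization.Away (algebraMap A As a)
  haveI : IsLocalization.Away s Bs := by
    refine IsLocalization.Away.of_associated (r := algebraMap A As a) ?_
    rw [← ha]
    exact (associated_mul_unit_right s _ (IsLocalization.map_units As
      (⟨f ^ m, m, rfl⟩ : Submonoid.powers f))).symm
  haveI : IsLocalization.Away (a * f) Bs := IsLocalization.Away.mul As Bs f a
  obtain ⟨hnzd, hsm⟩ := hcart Bs
  rw [← IsScalarTower.algebraMap_apply A As Bs] at hnzd hsm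
  set t : A := a * f
  have htP : t ∉ P := fun hm => ((Ideal.IsPrime.mem_or_mem inferInstance hm).elim haP hf)
  refine ⟨Ideal.Quotient.mk I t, htP, ?_⟩
  let D := Localization.Away (Ideal.Quotient.mk I t)
  haveI : Algebra.Smooth k D := by
    haveI : IsLocalization.Away (Ideal.Quotient.mk I t) (Bs ⧸ I.map (algebraMap A Bs)) := by
      have := (inferInstance : IsLocalization (Algebra.algebraMapSubmonoid (A ⧸ I) (Submonoid.powers t))
        (Bs ⧸ I.map (algebraMap A Bs)))
      rwa [Algebra.algebraMapSubmonoid, Submonoid.map_powers] at this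
    haveI : Algebra.Smooth k (Bs ⧸ I.map (algebraMap A Bs)) := by
      rw [show I.map (algebraMap A Bs) = Ideal.span {algebraMap A Bs h} by
        rw [Ideal.map_span, Set.image_singleton]]
      exact RingHom.smooth_algebraMap.1 hsm
    haveI : IsScalarTower k (A ⧸ I) (Bs ⧸ I.map (algebraMap A Bs)) := IsScalarTower.of_algebraMap_eq fun c => by
      change Ideal.Quotient.mk _ (algebraMap k Bs c) = Ideal.Quotient.mk _ (algebraMap A Bs (algebraMap k A c))
      rw [← IsScalarTower.algebraMap_apply]
    let e₀ := (IsLocalization.algEquiv (Submonoid.powers (Ideal.Quotient.mk I t))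
      (Bs ⧸ I.map (algebraMap A Bs)) D).toRingEquiv
    have hcomm : (e₀.toRingHom.comp (algebraMap k (Bs ⧸ I.map (algebraMap A Bs)))) = algebraMap k D := by
      refine RingHom.ext fun c => ?_
      rw [RingHom.comp_apply, IsScalarTower.algebraMap_apply k (A ⧸ I) (Bs ⧸ I.map (algebraMap A Bs)),
        IsScalarTower.algebraMap_apply k (A ⧸ I) D]
      exact (IsLocalization.algEquiv (Submonoid.powers (Ideal.Quotient.mk I t))
        (Bs ⧸ I.map (algebraMap A Bs)) D).commutes _
    refine RingHom.smooth_algebraMap.1 ?_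
    rw [← hcomm]
    exact RingHom.Smooth.respectsIso.1 (R := k) (S := Bs ⧸ I.map (algebraMap A Bs)) (T := D)
      (algebraMap k (Bs ⧸ I.map (algebraMap A Bs))) e₀
      ((RingHom.smooth_algebraMap (R := k) (S := Bs ⧸ I.map (algebraMap A Bs))).2 inferInstance)
  refine smoothOfRelativeDimension_of_dim fun p hp => ?_
  haveI : p.IsPrime := hp.1.1
  rw [ringKrullDim_quotient_away (k := k) (Ideal.Quotient.mk I t) p]
  set p₁ := p.comap (algebraMap (A ⧸ I) D) with hp₁
  set p' := p₁.comap (Ideal.Quotient.mk I) with hp'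
  have hIp' : I ≤ p' := fun z hz => by
    show Ideal.Quotient.mk I z ∈ p₁
    rw [Ideal.Quotient.eq_zero_iff_mem.2 hz]
    exact p₁.zero_mem
  have ht1 : Ideal.Quotient.mk I t ∉ p₁ := fun hm =>
    ‹p.IsPrime›.ne_top (Ideal.eq_top_of_isUnit_mem _ hm (IsLocalization.Away.algebraMap_isUnit (Ideal.Quotient.mk I t)))
  have hp₁min : p₁ ∈ minimalPrimes (A ⧸ I) := by
    refine ⟨⟨inferInstance, bot_le⟩, fun J hJ hle => ?_⟩
    haveI := hJ.1
    have hdJ : Disjoint (Submonoid.powers (Ideal.Quotient.mk I t) : Set (A ⧸ I)) (J : Set (A ⧸ I)) :=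
      (Ideal.disjoint_powers_iff_notMem_of_isPrime _).2 fun hm => ht1 (hle hm)
    have h1 : J.map (algebraMap (A ⧸ I) D) ≤ p := Ideal.map_le_iff_le_comap.2 hle
    have h2 := hp.2 ⟨IsLocalization.isPrime_of_isPrime_disjoint (Submonoid.powers (Ideal.Quotient.mk I t)) _ _ hJ.1 hdJ,
      bot_le⟩ h1
    calc p₁ ≤ (J.map (algebraMap (A ⧸ I) D)).comap (algebraMap (A ⧸ I) D) := Ideal.comap_mono h2
      _ = J := IsLocalization.under_map_of_isPrime_disjoint (Submonoid.powers (Ideal.Quotient.mk I t)) _ hJ.1 hdJ
  have hp'min : p' ∈ I.minimalPrimes := by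
    have : p' ∈ Ideal.comap (Ideal.Quotient.mk I) '' (⊥ : Ideal (A ⧸ I)).minimalPrimes := ⟨p₁, hp₁min, rfl⟩
    rwa [← Ideal.comap_minimalPrimes_eq_of_surjective Ideal.Quotient.mk_surjective, ← RingHom.ker_eq_comap_bot,
      Ideal.mk_ker] at this
  have e : ((A ⧸ I) ⧸ p₁) ≃+* A ⧸ p' := (Ideal.quotEquivOfEq (by
    rw [hp', Ideal.map_comap_of_surjective _ Ideal.Quotient.mk_surjective])).trans
    (DoubleQuot.quotQuotEquivQuotOfLE hIp')
  rw [ringKrullDim_eq_of_ringEquiv e]
  obtain ⟨p₀, hp₀, hp₀le⟩ := Ideal.exists_minimalPrimes_le (bot_le : (⊥ : Ideal A) ≤ p')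
  haveI : p₀.IsPrime := hp₀.1.1
  haveI : Algebra.FiniteType k (A ⧸ p₀) := VarDim.finiteType_quotient k A p₀
  have hhp₀ : h ∉ p₀ := by
    intro hm
    have htp₀ : t ∉ p₀ := fun hm => ht1 (hp₀le hm)
    have hd0 : Disjoint (Submonoid.powers t : Set A) (p₀ : Set A) :=
      (Ideal.disjoint_powers_iff_notMem_of_isPrime _).2 htp₀
    haveI := IsLocalization.isPrime_of_isPrime_disjoint (Submonoid.powers t) Bs p₀ inferInstance hd0
    have hmin : p₀.map (algebraMap A Bs) ∈ minimalPrimes Bs := by
      refine ⟨⟨inferInstance, bot_le⟩, fun J hJ hle => ?_⟩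
      haveI := hJ.1
      have h1 : J.comap (algebraMap A Bs) ≤ p₀ := (Ideal.comap_mono hle).trans_eq
        (IsLocalization.under_map_of_isPrime_disjoint (Submonoid.powers t) _ inferInstance hd0)
      exact Ideal.map_le_iff_le_comap.2 (hp₀.2 ⟨inferInstance, bot_le⟩ h1)
    haveI : IsNoetherianRing A := Algebra.FiniteType.isNoetherianRing k A
    exact (Ideal.disjoint_nonZeroDivisors_of_mem_minimalPrimes hmin).le_bot
      ⟨Ideal.mem_map_of_mem _ hm, hnzd⟩
  haveI hpm : (p'.map (Ideal.Quotient.mk p₀)).IsPrime :=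
    Ideal.map_isPrime_of_surjective Ideal.Quotient.mk_surjective (by rw [Ideal.mk_ker]; exact hp₀le)
  have hcomap : (p'.map (Ideal.Quotient.mk p₀)).comap (Ideal.Quotient.mk p₀) = p' := by
    rw [Ideal.comap_map_of_surjective _ Ideal.Quotient.mk_surjective, ← RingHom.ker_eq_comap_bot, Ideal.mk_ker,
      sup_eq_left.2 hp₀le]
  have hmin2 : p'.map (Ideal.Quotient.mk p₀) ∈ (Ideal.span {Ideal.Quotient.mk p₀ h}).minimalPrimes := by
    refine ⟨⟨hpm, ?_⟩, fun J hJ hle => ?_⟩
    · rw [Ideal.span_singleton_le_iff_mem]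
      exact Ideal.mem_map_of_mem _ (hIp' (Ideal.mem_span_singleton_self h))
    · haveI := hJ.1
      have h1 : J.comap (Ideal.Quotient.mk p₀) ≤ p' := (Ideal.comap_mono hle).trans_eq hcomap
      refine Ideal.map_le_iff_le_comap.2 (hp'min.2 ⟨inferInstance, ?_⟩ h1)
      rw [Ideal.span_singleton_le_iff_mem]
      exact hJ.2 (Ideal.mem_span_singleton_self _)
  haveI : IsNoetherianRing (A ⧸ p₀) := Algebra.FiniteType.isNoetherianRing k _
  have hle1 := Ideal.height_le_one_of_isPrincipal_of_mem_minimalPrimes _ _ hmin2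
  have hne0 : (p'.map (Ideal.Quotient.mk p₀)).height ≠ 0 := by
    intro h0
    rw [Ideal.height_eq_zero_iff] at h0
    have hbot : p'.map (Ideal.Quotient.mk p₀) = ⊥ := le_bot_iff.1 (h0.2 ⟨Ideal.isPrime_bot, bot_le⟩ bot_le)
    refine hhp₀ (Ideal.Quotient.eq_zero_iff_mem.1 ?_)
    rw [← Ideal.mem_bot, ← hbot]
    exact Ideal.mem_map_of_mem _ (hIp' (Ideal.mem_span_singleton_self h))
  have h1 : (p'.map (Ideal.Quotient.mk p₀)).height = 1 :=
    le_antisymm hle1 (Order.one_le_iff_pos.2 (pos_iff_ne_zero.2 hne0))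
  have hsum := VarDim.ringKrullDim_quotient_add_height k (A ⧸ p₀) (p'.map (Ideal.Quotient.mk p₀))
  rw [ringKrullDim_eq_of_ringEquiv (DoubleQuot.quotQuotEquivQuotOfLE hp₀le), h1, hdim p₀ hp₀] at hsum
  haveI : Algebra.FiniteType k (A ⧸ p') := VarDim.finiteType_quotient k A p'
  obtain ⟨d, hd', -, -⟩ := VarDim.exists_ringKrullDim_eq_trdeg k (A ⧸ p')
  rw [hd'] at hsum ⊢
  have h2 : d + 1 = r := by exact_mod_cast hsum
  norm_cast
  omega

end Groth.Agent.Bertini
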